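import Mathlib
import Cfsg.Agent.H5.InvSylow
import Cfsg.Agent.H7.Parity

/-! Transvections induced on an elementary abelian subgroup; extremal Thompson transfer. -/

set_option autoImplicit false

namespace KO

open Subgroup

theorem z2 (k : ZMod 2) : k = 0 ∨ k = 1 := by revert k; decide
theorem z2add (k : ZMod 2) : k + k = 0 := by revert k; decide

variable {V : Type*} [AddCommGroup V] [Module (ZMod 2) V] {K L : Type*} [Group K] [Group L]

theorem vadd_self (a : V) : a + a = 0 := by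
  rw [← one_smul (ZMod 2) a, ← add_smul, z2add, zero_smul]

theorem v_eq_of_add {a b : V} (h : a + b = 0) : a = b := by
  rw [← add_zero a, ← vadd_self b, ← add_assoc, h, zero_add]

/-- an embedding of `V` into `K` -/
structure Em (E : V → K) : Prop where
  add : ∀ a b, E (a + b) = E a * E b
  inj : Function.Injective E

omit [Module (ZMod 2) V] in
theorem Em.zero {E : V → K} (h : Em E) : E 0 = 1 := by
  have := h.add 0 0
  rw [add_zero] at this
  exact left_eq_mul.1 this

theorem Em.sq {E : V → K} (h : Em E) (a : V) : E a * E a = 1 := by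
  rw [← h.add, vadd_self, h.zero]

omit [Module (ZMod 2) V] in
theorem Em.comm {E : V → K} (h : Em E) (a b : V) : E a * E b = E b * E a := by
  rw [← h.add, add_comm, h.add]

omit [Module (ZMod 2) V] in
theorem Em.conj {E : V → K} (h : Em E) (g : K) : Em fun a => g * E a * g⁻¹ :=
  ⟨fun a b => by rw [h.add]; group, fun a b e => h.inj (by simpa using e)⟩

omit [Module (ZMod 2) V] in
theorem Em.map {E : V → K} (h : Em E) (j : K →* L) (hj : Function.Injective j) :
    Em fun a => j (E a) :=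
  ⟨fun a b => by rw [h.add, map_mul], fun _ _ e => h.inj (hj e)⟩

omit [Module (ZMod 2) V] in
theorem Em.of_map {E : V → K} (j : K →* L) (hj : Function.Injective j)
    (h : Em fun a => j (E a)) : Em E :=
  ⟨fun a b => hj (by rw [map_mul]; exact h.add a b), fun _ _ e => h.inj (congrArg j e)⟩

/-- the image subgroup -/
def Em.rg {E : V → K} (h : Em E) : Subgroup K where
  carrier := Set.range E
  mul_mem' := by rintro _ _ ⟨a, rfl⟩ ⟨b, rfl⟩; exact ⟨_, h.add a b⟩
  one_mem' := ⟨0, h.zero⟩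
  inv_mem' := by rintro _ ⟨a, rfl⟩; exact ⟨a, eq_inv_of_mul_eq_one_left (h.sq a)⟩

theorem Em.card {E : V → K} (h : Em E) : Nat.card h.rg = Nat.card V :=
  (Nat.card_congr (Equiv.ofInjective E h.inj)).symm

theorem Em.pg {E : V → K} (h : Em E) : IsPGroup 2 h.rg := by
  rintro ⟨_, a, rfl⟩
  exact ⟨1, Subtype.ext (by simpa [pow_two] using h.sq a)⟩

/-- `x` induces the transvection with centre `c` and form `f` -/
structure Tr (E : V → K) (x : K) (c : V) (f : V → ZMod 2) : Prop where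
  ne : c ≠ 0
  ex : ∃ a, f a = 1
  ac : ∀ a, x * E a * x⁻¹ = E (a + f a • c)

variable {E : V → K} {x y : K} {c d : V} {f g : V → ZMod 2}

theorem Tr.add (h : Tr E x c f) (hE : Em E) (a b : V) : f (a + b) = f a + f b := by
  have h1 : E (a + b + f (a + b) • c) = E (a + f a • c + (b + f b • c)) := by
    rw [← h.ac, hE.add, hE.add, ← h.ac, ← h.ac]; group
  have h2 := hE.inj h1
  rw [add_add_add_comm, add_right_inj, ← add_smul] at h2
  exact smul_left_injective _ h.ne h2

theorem Tr.zero (h : Tr E x c f) (hE : Em E) : f 0 = 0 := by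
  have := h.add hE 0 0
  rwa [add_zero, z2add] at this

theorem Tr.smul (h : Tr E x c f) (hE : Em E) (k : ZMod 2) (a : V) : f (k • a) = k * f a := by
  rcases z2 k with rfl | rfl
  · rw [zero_smul, zero_mul, h.zero hE]
  · rw [one_smul, one_mul]

theorem Tr.sum (h : Tr E x c f) (hE : Em E) {α : Type*} (s : Finset α) (a : α → V) :
    f (∑ i ∈ s, a i) = ∑ i ∈ s, f (a i) := by
  classical
  induction s using Finset.induction_on with
  | empty => simpa using h.zero hE
  | insert i s hi ih => rw [Finset.sum_insert hi, Finset.sum_insert hi, h.add hE, ih]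

theorem Tr.fc (h : Tr E x c f) (hE : Em E) : f c = 0 := by
  refine (z2 _).resolve_right fun e => h.ne (hE.inj ?_)
  have := h.ac c
  rw [e, one_smul, vadd_self, hE.zero] at this
  rw [hE.zero]
  simpa using this

theorem Tr.conj (h : Tr E x c f) (k : K) : Tr (fun a => k * E a * k⁻¹) (k * x * k⁻¹) c f :=
  ⟨h.ne, h.ex, fun a => by rw [← h.ac]; group⟩

theorem Tr.map (h : Tr E x c f) (j : K →* L) : Tr (fun a => j (E a)) (j x) c f :=
  ⟨h.ne, h.ex, fun a => by rw [← h.ac, map_mul, map_mul, map_inv]⟩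

theorem Tr.of_map (j : K →* L) (hj : Function.Injective j)
    (h : Tr (fun a => j (E a)) (j x) c f) : Tr E x c f :=
  ⟨h.ne, h.ex, fun a => hj (by rw [← h.ac, map_mul, map_mul, map_inv])⟩

theorem Tr.inv (h : Tr E x c f) (hE : Em E) (a : V) : x⁻¹ * E a * x = E (a + f a • c) := by
  have := h.ac (a + f a • c)
  rw [h.add hE, h.smul hE, h.fc hE, mul_zero, add_zero, add_assoc, vadd_self, add_zero] at this
  rw [← this]; group

theorem Tr.cj (h : Tr E x c f) (h' : Tr E y d g) (hE : Em E) :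
    Tr E (x * y * x⁻¹) (d + f d • c) fun a => g a + g c * f a := by
  refine ⟨fun e => h'.ne ?_, ?_, fun a => ?_⟩
  · have e1 := v_eq_of_add e
    have e2 : f d = 0 := by rw [e1, h.smul hE, h.fc hE, mul_zero]
    rwa [e2, zero_smul] at e1
  · obtain ⟨a, ha⟩ := h'.ex
    refine ⟨a + f a • c, ?_⟩
    rw [h'.add hE, h'.smul hE, h.add hE, h.smul hE, h.fc hE, ha, mul_zero, add_zero, mul_comm,
      add_assoc, z2add, add_zero]
  · calc _ = x * (y * (x⁻¹ * E a * x) * y⁻¹) * x⁻¹ := by group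
      _ = _ := by
        rw [h.inv hE, h'.ac, h.ac]
        congr 1
        simp only [h.add hE, h.smul hE, h'.add hE, h'.smul hE, h.fc hE, mul_zero, add_zero]
        rw [mul_comm (f a) (g c)]
        generalize g a + g c * f a = k
        rw [add_smul, add_right_comm, ← add_assoc, add_assoc a, vadd_self, add_zero, smul_add,
          mul_smul, add_assoc, add_comm (k • d)]

theorem Tr.mk' (hE : Em E) (hc : c ≠ 0) (h1 : ∀ a, x * E a * x⁻¹ = E a ∨ x * E a * x⁻¹ = E a * E c)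
    (h2 : ∃ a, x * E a * x⁻¹ ≠ E a) : ∃ f, Tr E x c f := by
  classical
  refine ⟨fun a => if x * E a * x⁻¹ = E a then 0 else 1, hc, ?_, fun a => ?_⟩
  · obtain ⟨a, ha⟩ := h2
    exact ⟨a, if_neg ha⟩
  · by_cases ha : x * E a * x⁻¹ = E a
    · rw [if_pos ha, zero_smul, add_zero, ha]
    · rw [if_neg ha, one_smul, hE.add, (h1 a).resolve_left ha]

theorem Tr.no3 (h : Tr E x c f) (h' : Tr E y d g) (hE : Em E) {P : Subgroup K} (hP : IsPGroup 2 P)
    (hx : x ∈ P) (hy : y ∈ P) (h1 : f d = 1) (h2 : g c = 1) : False := by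
  have key : ∀ a, x * y * E a * (x * y)⁻¹ = E (a + g a • d + f (a + g a • d) • c) := fun a => by
    rw [← h.ac, ← h'.ac]; group
  have k1 := key c
  have k2 := key d
  have k3 := key (d + c)
  simp only [h.add hE, h'.add hE, h.fc hE, h'.fc hE, h1, h2, zero_add, one_smul,
    zero_smul, add_zero] at k1 k2 k3
  rw [add_right_comm, vadd_self, zero_add] at k1
  rw [z2add, zero_smul, add_zero, add_right_comm, vadd_self, zero_add] at k3
  have k4 : Commute ((x * y) ^ 3) (E c) := by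
    have : (x * y) ^ 3 * E c * ((x * y) ^ 3)⁻¹ = E c := by
      calc _ = x * y * (x * y * (x * y * E c * (x * y)⁻¹) * (x * y)⁻¹) * (x * y)⁻¹ := by
            rw [pow_three]; group
        _ = _ := by rw [k1, k2, k3]
    exact mul_inv_eq_iff_eq_mul.1 this
  obtain ⟨k, hk⟩ := hP ⟨_, mul_mem hx hy⟩
  have hk' : (x * y) ^ 2 ^ k = 1 := congrArg Subtype.val hk
  have k5 : x * y ∈ zpowers ((x * y) ^ 3) := by
    rw [mem_zpowers_pow_iff]
    exact Nat.Coprime.coprime_dvd_right (orderOf_dvd_of_pow_eq_one hk')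
      (Nat.Coprime.pow_right _ (by norm_num))
  obtain ⟨m, hm⟩ := k5
  have k6 : Commute (x * y) (E c) := by rw [← hm]; exact k4.zpow_left m
  rw [k6.eq, mul_inv_cancel_right] at k1
  have := h.fc hE
  rw [hE.inj k1, h1] at this
  exact absurd this (by decide)

/-- a group acting as a 2-group is covered by a 2-subgroup -/
theorem cov [Finite K] [Finite V] (hE : Em E) (X : Subgroup K) (hX : ∀ a, E a ∈ X)
    (h1 : ∀ z ∈ X, ∀ a, ∃ b, z * E a * z⁻¹ = E b) (h4 : ∀ z ∈ X, ∀ a, z ^ 4 * E a = E a * z ^ 4) :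
    ∃ P : Subgroup K, IsPGroup 2 P ∧ (∀ a, E a ∈ P) ∧
      ∀ z ∈ X, ∃ p ∈ P, ∀ a, p * E a * p⁻¹ = z * E a * z⁻¹ := by
  have hn : X ≤ normalizer (hE.rg : Set K) := fun z hz => by
    refine mem_normalizer_fintype ?_
    rintro _ ⟨a, rfl⟩
    obtain ⟨b, hb⟩ := h1 z hz a
    exact ⟨b, hb.symm⟩
  obtain ⟨P, hP⟩ := H5.exists_isSylowOf 2 X
  let ρ : X →* MulAut hE.rg := hE.rg.normalizerMonoidHom.comp (inclusion hn)
  have hρ : ∀ (z : X) a, ((ρ z ⟨E a, a, rfl⟩ : hE.rg) : K) = z * E a * (z : K)⁻¹ := fun _ _ => rfl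
  have h2 := (hP.subgroupOf le_rfl).map ρ
  have h3 : IsPGroup 2 ((X.subgroupOf X).map ρ) := by
    rintro ⟨_, z, -, rfl⟩
    refine ⟨2, Subtype.ext ?_⟩
    change ρ z ^ 4 = 1
    rw [← map_pow]
    ext ⟨_, a, rfl⟩
    rw [hρ]
    change (z : K) ^ 4 * E a * ((z : K) ^ 4)⁻¹ = E a
    rw [h4 z z.2, mul_inv_cancel_right]
  have h5 := h2.eq_of_le h3 h2.le le_rfl
  refine ⟨P, hP.isPGroup, fun a => hP.le_of_le_normalizer hE.pg ?_ (hP.le.trans hn) ⟨a, rfl⟩,
    fun z hz => ?_⟩
  · rintro _ ⟨a, rfl⟩; exact hX a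
  · have : ρ ⟨z, hz⟩ ∈ (P.subgroupOf X).map ρ := by
      rw [← h5]; exact mem_map_of_mem _ (mem_subgroupOf.2 hz)
    obtain ⟨p, hp, e⟩ := this
    exact ⟨p, hp, fun a => by rw [← hρ, e, hρ]⟩

/-- a submonoid of a finite group -/
def fsub [Finite K] (S : Set K) (h1 : 1 ∈ S) (hm : ∀ a b, a ∈ S → b ∈ S → a * b ∈ S) :
    Subgroup K := subgroupOfIdempotent S ⟨1, h1⟩ (by
  ext z
  exact ⟨by rintro ⟨a, ha, b, hb, rfl⟩; exact hm a b ha hb, fun h => ⟨1, h1, z, h, one_mul z⟩⟩)

/-- commuting pattern `f d = 0` gives a 2-group -/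
theorem Tr.pair [Finite K] [Finite V] (h : Tr E x c f) (h' : Tr E y d g) (hE : Em E)
    (h0 : f d = 0) : ∃ P : Subgroup K, IsPGroup 2 P ∧ (∀ a, E a ∈ P) ∧
      ∃ x' ∈ P, ∃ y' ∈ P, Tr E x' c f ∧ Tr E y' d g := by
  have mul : ∀ {z z' : K} {α β γ α' β' γ' : ZMod 2},
      (∀ a, z * E a * z⁻¹ = E (a + (α * f a) • c + (β * f a + γ * g a) • d)) →
      (∀ a, z' * E a * z'⁻¹ = E (a + (α' * f a) • c + (β' * f a + γ' * g a) • d)) →
      ∀ a, z * z' * E a * (z * z')⁻¹ = E (a + ((α + α') * f a) • c +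
        ((β + β' + γ * α' * g c) * f a + (γ + γ') * g a) • d) := by
    intro z z' α β γ α' β' γ' e e' a
    calc _ = z * (z' * E a * z'⁻¹) * z⁻¹ := by group
      _ = _ := by
        rw [e', e]
        congr 1
        simp only [h.add hE, h.smul hE, h'.add hE, h'.smul hE, h.fc hE, h'.fc hE, h0, mul_zero,
          add_zero]
        module
  let X : Subgroup K := fsub
    {z | ∃ α β γ : ZMod 2, ∀ a, z * E a * z⁻¹ = E (a + (α * f a) • c + (β * f a + γ * g a) • d)}
    ⟨0, 0, 0, fun a => by simp⟩ (by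
      rintro z z' ⟨α, β, γ, e⟩ ⟨α', β', γ', e'⟩
      exact ⟨_, _, _, mul e e'⟩)
  obtain ⟨P, hP, h1, h2⟩ := cov hE X
    (fun b => ⟨0, 0, 0, fun a => by simp [hE.comm b a]⟩)
    (by rintro z ⟨α, β, γ, e⟩ a; exact ⟨_, e a⟩) (by
      rintro z ⟨α, β, γ, e⟩ a
      have := mul (mul e e) (mul e e) a
      simp only [z2add, zero_mul, zero_add, add_zero, mul_zero, zero_smul] at this
      rw [show z ^ 4 = z * z * (z * z) by simp only [pow_succ, pow_zero, one_mul, mul_assoc]]
      exact mul_inv_eq_iff_eq_mul.1 this)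
  obtain ⟨x', hx', ex⟩ := h2 x ⟨1, 0, 0, fun a => by simp [h.ac]⟩
  obtain ⟨y', hy', ey⟩ := h2 y ⟨0, 0, 1, fun a => by simp [h'.ac]⟩
  exact ⟨P, hP, h1, x', hx', y', hy', ⟨h.ne, h.ex, fun a => by rw [ex, h.ac]⟩,
    ⟨h'.ne, h'.ex, fun a => by rw [ey, h'.ac]⟩⟩

open MulAction in
/-- extremal form of Thompson's transfer lemma -/
theorem ext_tt [Finite L] (hG : ∀ H : Subgroup L, H.Normal → H.index ≠ 2) (j : K →* L)
    (hj : Function.Injective j) (ho : Odd j.range.index) (χ : K →* ℤˣ) {t : L} (ht : t * t = 1)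
    {S : Subgroup L} (hS : IsPGroup 2 S) (htS : t ∈ S) (hSt : ∀ s ∈ S, s * t = t * s) :
    ∃ g : L, (∀ s ∈ S, g⁻¹ * s * g ∈ j.range) ∧ ∃ w, g⁻¹ * t * g = j w ∧ χ w = 1 := by
  classical
  have := Fintype.ofFinite (L ⧸ j.range)
  let φ : j.range →* ℤˣ := χ.comp (MonoidHom.ofInjective hj).symm.toMonoidHom
  have hφ : ∀ w hw, φ ⟨j w, hw⟩ = χ w := fun w hw => congrArg χ
    ((MonoidHom.ofInjective hj).symm_apply_eq.2 rfl)
  have hout : ∀ g : L, (∃ w, g⁻¹ * t * g = j w ∧ χ w = -1) ↔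
      ∃ w, (g : L ⧸ j.range).out⁻¹ * t * (g : L ⧸ j.range).out = j w ∧ χ w = -1 := by
    intro g
    obtain ⟨⟨_, x, rfl⟩, hx⟩ := QuotientGroup.mk_out_eq_mul j.range g
    rw [hx]
    constructor
    · rintro ⟨w, e, hw⟩
      refine ⟨x⁻¹ * w * x, ?_, by simp [hw, mul_comm]⟩
      rw [map_mul, map_mul, map_inv, ← e]; group
    · rintro ⟨w, e, hw⟩
      refine ⟨x * w * x⁻¹, ?_, by simp [hw, mul_comm]⟩
      rw [map_mul, map_mul, map_inv, ← e]; group
  let X : SubMulAction S (L ⧸ j.range) :=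
    { carrier := {c | ¬ ∃ w, c.out⁻¹ * t * c.out = j w ∧ χ w = -1}
      smul_mem' := by
        intro s c hc h
        rw [← c.out_eq'] at h
        have h' := (hout (s * c.out)).2 h
        have e : ((s : L) * c.out)⁻¹ * t * (s * c.out) = c.out⁻¹ * t * c.out := by
          calc _ = c.out⁻¹ * ((s : L)⁻¹ * (t * s)) * c.out := by group
            _ = _ := by rw [← hSt s s.2, inv_mul_cancel_left]
        rw [e] at h'
        exact hc h' }
  have h1 := H7.transfer_eq_prod_fixed φ t (fun g k hk hg => by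
    rcases Nat.even_or_odd' k with ⟨m, rfl | rfl⟩
    · rw [← map_one φ]; congr 1; ext
      simp [pow_mul, pow_two, ht]
    · rw [pow_succ, pow_mul, pow_two, ht, one_pow, one_mul] at hk
      exact absurd hk hg)
  have h0 : φ.transfer t = 1 := (Int.units_eq_one_or _).resolve_right fun e =>
    hG _ inferInstance (H2.index_ker_of_neg_one _ e)
  rw [h0] at h1
  have h2 : ∀ c : L ⧸ j.range, (if hc : c.out⁻¹ * t * c.out ∈ j.range then φ ⟨_, hc⟩ else 1) =
      if c ∈ X then 1 else -1 := by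
    intro c
    by_cases hc : c.out⁻¹ * t * c.out ∈ j.range
    · rw [dif_pos hc]
      obtain ⟨w, hw⟩ := hc
      simp only [← hw, hφ]
      rcases Int.units_eq_one_or (χ w) with e | e
      · rw [e, if_pos]
        rintro ⟨w', e', h'⟩
        rw [← hw] at e'
        rw [← hj e', e] at h'
        exact absurd h' (by decide)
      · rw [e, if_neg fun h => h ⟨w, hw.symm, e⟩]
    · rw [dif_neg hc, if_pos]
      rintro ⟨w, e, -⟩
      exact hc ⟨w, e.symm⟩
  simp_rw [h2] at h1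
  rw [Finset.prod_ite, Finset.prod_const_one, one_mul, Finset.prod_const, eq_comm,
    neg_one_pow_eq_one_iff_even (by decide)] at h1
  have h3 : ¬ 2 ∣ Nat.card X := by
    rw [Nat.card_eq_fintype_card, Fintype.card_subtype]
    have h4 := Finset.card_filter_add_card_filter_not (s := Finset.univ) (fun c => c ∈ X)
    rw [Finset.card_univ, ← Nat.card_eq_fintype_card, ← index] at h4
    rw [Nat.odd_iff] at ho
    rw [Nat.even_iff] at h1
    omega
  obtain ⟨b, hb⟩ := hS.nonempty_fixed_point_of_prime_not_dvd_card X h3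
  have h5 : ∀ s ∈ S, b.1.out⁻¹ * s * b.1.out ∈ j.range := fun s hs => by
    have h5 : s • b.1 = b.1 := congrArg Subtype.val (hb ⟨s, hs⟩)
    conv at h5 => rw [← b.1.out_eq', eq_comm]
    rwa [Quotient.smul_coe, QuotientGroup.eq, smul_eq_mul, ← mul_assoc] at h5
  obtain ⟨w, hw⟩ := h5 t htS
  exact ⟨_, h5, w, hw.symm, (Int.units_eq_one_or _).resolve_right fun e => b.2 ⟨w, hw.symm, e⟩⟩

end KO
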